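import Groth.Agent.AlgSpLib.HenselLift
import Groth.Agent.UnibranchEtale.NbhdScheme
import Groth.Prelude.Def_Hensel
import Groth.Prelude.Def_Hens2

/-!
# Henselizations along elementary etale neighbourhoods of schemes
-/

set_option autoImplicit false
set_option linter.style.haveILetI false

universe u

open CategoryTheory AlgebraicGeometry IsLocalRing

set_option backward.isDefEq.respectTransparency false

namespace Groth.Agent.HenselComp

variable {X U : Scheme.{u}}

/-- extensions of local maps to the local ring of an unramified point are local -/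
theorem maximal_le_comap (g : U ⟶ X) [Etale g] (u : U) {T : Type u} [CommRing T] [IsLocalRing T]
    {f : X.presheaf.stalk (g u) →+* T} [IsLocalHom f] (F : U.presheaf.stalk u →+* T)
    (hF : F.comp (g.stalkMap u).hom = f) : maximalIdeal (U.presheaf.stalk u) ≤ (maximalIdeal T).comap F := by
  letI : Algebra (X.presheaf.stalk (g u)) (U.presheaf.stalk u) := (g.stalkMap u).hom.toAlgebra
  haveI : IsLocalHom (algebraMap (X.presheaf.stalk (g u)) (U.presheaf.stalk u)) :=
    inferInstanceAs <| IsLocalHom (g.stalkMap u).hom
  haveI : Algebra.EssFiniteType (X.presheaf.stalk (g u)) (U.presheaf.stalk u) := by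
    rw [← RingHom.essFiniteType_algebraMap]; exact LocallyOfFiniteType.stalkMap g u
  haveI : Algebra.FormallyUnramified (X.presheaf.stalk (g u)) (U.presheaf.stalk u) := by
    rw [← RingHom.formallyUnramified_algebraMap]; exact FormallyUnramified.stalkMap g u
  rw [← Algebra.FormallyUnramified.map_maximalIdeal (R := X.presheaf.stalk (g u)) (S := U.presheaf.stalk u),
    Ideal.map_le_iff_le_comap, Ideal.comap_comap]
  show maximalIdeal (X.presheaf.stalk (g u)) ≤ (maximalIdeal T).comap (F.comp (g.stalkMap u).hom)
  rw [hF]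
  exact fun r hr => map_nonunit f r hr

/-- maps to henselian local rings extend uniquely to the local ring of an elementary etale neighbourhood -/
theorem existsUnique_extend (g : U ⟶ X) [Etale g] (u : U) (hres : Function.Bijective (g.residueFieldMap u))
    (T : Type u) [CommRing T] [HenselianLocalRing T] (f : X.presheaf.stalk (g u) →+* T) [IsLocalHom f] :
    ∃! F : U.presheaf.stalk u →+* T, F.comp (g.stalkMap u).hom = f := by
  obtain ⟨V, hV, W, hW, huW, -, e⟩ := UnibranchEtale.exists_affine_chart g u ⊤ trivial
  let α : Γ(X, V) →+* Γ(U, W) := (g.appLE V W e).hom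
  have hE : α.Etale := g.etale_appLE hV hW e
  let lu : Γ(U, W) →+* U.presheaf.stalk u := (U.presheaf.germ W u huW).hom
  let lx : Γ(X, V) →+* X.presheaf.stalk (g u) := (X.presheaf.germ V (g u) (e huW)).hom
  have hsq : lu.comp α = (g.stalkMap u).hom.comp lx := RingHom.ext fun r => by
    show U.presheaf.germ W u huW (g.appLE V W e r) = g.stalkMap u (X.presheaf.germ V (g u) (e huW) r)
    rw [Scheme.Hom.germ_stalkMap_apply, Scheme.Hom.appLE]
    exact TopCat.Presheaf.germ_res_apply U.presheaf (homOfLE e) u huW _
  let er := RingEquiv.ofBijective (g.residueFieldMap u).hom hres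
  let τ : U.residueField u →+* ResidueField T := (ResidueField.map f).comp er.symm.toRingHom
  have her : ∀ z, er (residue _ z) = residue _ ((g.stalkMap u).hom z) := fun z =>
    ConcreteCategory.congr_hom (Scheme.residue_residueFieldMap g u) z
  have hτ : ∀ F : U.presheaf.stalk u →+* T, F.comp (g.stalkMap u).hom = f →
      ∀ z, residue T (F z) = τ (residue _ z) := by
    intro F hF z
    have hmax := maximal_le_comap g u F hF
    obtain ⟨w, hw⟩ := hres.2 (residue _ z)
    obtain ⟨w', hw'⟩ := Ideal.Quotient.mk_surjective w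
    have hz : z - (g.stalkMap u).hom w' ∈ maximalIdeal (U.presheaf.stalk u) := by
      rw [← residue_eq_zero_iff, map_sub, sub_eq_zero, ← her w']
      exact (hw.symm.trans (congrArg _ hw'.symm))
    have h1 : residue T (F z) = residue T (f w') := by
      rw [← sub_eq_zero, ← map_sub, ← RingHom.congr_fun hF w']
      exact (residue_eq_zero_iff _).2 (by simpa using hmax hz)
    rw [h1, show τ (residue _ z) = ResidueField.map f (er.symm (residue _ z)) from rfl, ← hw]
    change _ = ResidueField.map f (er.symm (er w))
    rw [RingEquiv.symm_apply_apply, ← hw']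
    exact (ResidueField.map_residue f w').symm
  let σ : Γ(U, W) →+* ResidueField T := τ.comp ((residue (U.presheaf.stalk u)).comp lu)
  have hσ : σ.comp α = (residue T).comp (f.comp lx) := RingHom.ext fun r => by
    show τ (residue _ (lu.comp α r)) = residue T (f (lx r))
    rw [hsq]
    show ResidueField.map f (er.symm (residue _ ((g.stalkMap u).hom (lx r)))) = _
    rw [← her, RingEquiv.symm_apply_apply]
    exact ResidueField.map_residue f _
  obtain ⟨μ, ⟨hμ1, hμ2⟩, huniq⟩ := AlgSpLib.existsUnique_lift_hensel α hE (f.comp lx) σ hσ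
  letI := TopCat.Presheaf.algebra_section_stalk U.presheaf (⟨u, huW⟩ : W)
  haveI := hW.isLocalization_stalk ⟨u, huW⟩
  letI := TopCat.Presheaf.algebra_section_stalk X.presheaf (⟨g u, e huW⟩ : V)
  haveI := hV.isLocalization_stalk ⟨g u, e huW⟩
  have hunit : ∀ y : (hW.primeIdealOf ⟨u, huW⟩).asIdeal.primeCompl, IsUnit (μ y) := fun y => by
    have h0 : σ y ≠ 0 := fun h => by
      have h' := (map_eq_zero τ).1 h
      exact y.2 ((IsLocalization.AtPrime.to_map_mem_maximal_iff (U.presheaf.stalk u) _ (y : Γ(U, W))).1
        ((residue_eq_zero_iff _).1 h'))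
    rw [← RingHom.congr_fun hμ2 y, RingHom.comp_apply] at h0
    exact not_not.1 fun h => h0 ((residue_eq_zero_iff _).2 h)
  let F : U.presheaf.stalk u →+* T := IsLocalization.lift hunit
  have hF : F.comp lu = μ := IsLocalization.lift_comp hunit
  refine ⟨F, IsLocalization.ringHom_ext (hV.primeIdealOf ⟨g u, e huW⟩).asIdeal.primeCompl ?_, fun F' hF' =>
    IsLocalization.ringHom_ext (hW.primeIdealOf ⟨u, huW⟩).asIdeal.primeCompl ?_⟩
  · show (F.comp (g.stalkMap u).hom).comp lx = f.comp lx
    rw [RingHom.comp_assoc, ← hsq, ← RingHom.comp_assoc, hF, hμ1]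
  · show F'.comp lu = F.comp lu
    rw [hF]
    refine huniq _ ⟨?_, RingHom.ext fun b => hτ F' hF' (lu b)⟩
    rw [RingHom.comp_assoc, hsq, ← RingHom.comp_assoc, hF']

/-- a henselization of an elementary etale neighbourhood is one of the local ring below -/
theorem isHenselization_comp (g : U ⟶ X) [Etale g] (u : U) (hres : Function.Bijective (g.residueFieldMap u))
    (R : Type u) [CommRing R] [IsLocalRing R] [Algebra (U.presheaf.stalk u) R]
    [IsLocalHom (algebraMap (U.presheaf.stalk u) R)] [hR : Hensel.IsHenselization (U.presheaf.stalk u) R] :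
    letI : Algebra (X.presheaf.stalk (g u)) R :=
      ((algebraMap (U.presheaf.stalk u) R).comp (g.stalkMap u).hom).toAlgebra
    ∃ (_ : IsLocalHom (algebraMap (X.presheaf.stalk (g u)) R)),
      Hensel.IsHenselization (X.presheaf.stalk (g u)) R := by
  letI : Algebra (X.presheaf.stalk (g u)) R :=
    ((algebraMap (U.presheaf.stalk u) R).comp (g.stalkMap u).hom).toAlgebra
  have hloc : IsLocalHom (algebraMap (X.presheaf.stalk (g u)) R) :=
    RingHom.isLocalHom_comp (algebraMap (U.presheaf.stalk u) R) (g.stalkMap u).hom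
  refine ⟨hloc, hR.henselian, fun T _ _ f hf => ?_⟩
  haveI := hf
  obtain ⟨F, hF, hFu⟩ := existsUnique_extend g u hres T f
  have hF' : IsLocalHom F := by
    refine ⟨fun a ha => ?_⟩
    by_contra hna
    have hmax := maximal_le_comap g u F hF
    exact hmax hna ha
  obtain ⟨G, hG, hGu⟩ := hR.universal T F hF'
  refine ⟨G, ?_, fun G' hG' => hGu G' (hFu _ ?_)⟩
  · show G.comp ((algebraMap (U.presheaf.stalk u) R).comp (g.stalkMap u).hom) = f
    rw [← RingHom.comp_assoc, hG, hF]
  · show (G'.comp (algebraMap (U.presheaf.stalk u) R)).comp (g.stalkMap u).hom = f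
    rw [RingHom.comp_assoc]
    exact hG'

end Groth.Agent.HenselComp
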